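import Groth.Agent.H34.GeomPts.Count
import Groth.Agent.H54.WeightingOpen
import Groth.Agent.H46.UnivOpen
import Groth.Agent.Lib.QfhGalois.Basic
import Mathlib.AlgebraicGeometry.Morphisms.FlatDescent

/-!
# Semicontinuity of the number of geometric points and properness when it is constant

For a separated quasi-finite morphism which is universally open along a fibre, an etale neighbourhood
separates the geometric points of that fibre into finite pieces, each surjective near the base point.
-/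

set_option autoImplicit false

universe u

open CategoryTheory CategoryTheory.Limits AlgebraicGeometry Topology Filter

namespace Groth.Agent.H34.GeomPts

open Groth.Agent.H54.GeomLift Groth.Agent.H54.Weighting

variable {X Y : Scheme.{u}}

/-- A morphism covered by finitely many finite pieces is universally closed. -/
theorem universallyClosed_of_pieces {P W : Scheme.{u}} (π : P ⟶ W) {L : Type u} [Finite L]
    {Q : L → Scheme.{u}} (i : ∀ s, Q s ⟶ P) [∀ s, IsFinite (i s ≫ π)]
    (hcov : ∀ t, ∃ s, t ∈ Set.range (i s)) : UniversallyClosed π := by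
  have : Surjective (Sigma.desc i) := ⟨fun t => by
    obtain ⟨s, q, hq⟩ := hcov t
    exact ⟨Sigma.ι Q s q, by rw [← Scheme.Hom.comp_apply, Sigma.ι_desc]; exact hq⟩⟩
  have : UniversallyClosed (Sigma.desc i ≫ π) := by
    rw [show Sigma.desc i ≫ π = Sigma.desc fun s => i s ≫ π from
      Sigma.hom_ext _ _ fun s => by rw [Sigma.ι_desc_assoc, Sigma.ι_desc]]
    exact Lib.QfhGalois.universallyClosed_sigmaDesc _ fun s => inferInstance
  exact UniversallyClosed.of_comp_surjective (Sigma.desc i) π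

variable (f : X ⟶ Y) [IsSeparated f] [LocallyQuasiFinite f] [LocallyOfFiniteType f] [QuasiCompact f]
  {K : Type u} [Field K] [IsAlgClosed K] (ξ : Spec (CommRingCat.of K) ⟶ Y)

/-- Etale neighbourhood in which each geometric point of the fibre has its own finite piece, each
piece meeting all nearby fibres, in points which belong to that piece only. -/
theorem exists_pieces (h : ∀ x : X, f x = pt ξ → EGA43.IsUnivOpenAt f x) :
    ∃ (W : Scheme.{u}) (φ : W ⟶ Y) (_ : Etale φ) (η : Spec (CommRingCat.of K) ⟶ W)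
      (Q : Lift f ξ → Scheme.{u}) (i : ∀ s, Q s ⟶ pullback f φ)
      (_ : ∀ s, IsFinite (i s ≫ pullback.snd f φ)),
      η ≫ φ = ξ ∧ ∀ᶠ v in 𝓝 (pt η), ∀ s, ∃ t ∈ Set.range (i s), pullback.snd f φ t = v ∧
        ∀ s', t ∈ Set.range (i s') → s' = s := by
  classical
  have := finite_lift f ξ (f.finite_preimage_singleton _)
  let := Fintype.ofFinite (Lift f ξ)
  let D : ∀ s : Lift f ξ, Datum f s.1 := fun s => (nonempty_datum f _).some
  obtain ⟨W, φ, hφ, η, c, hη, hca, hcη⟩ := exists_common (𝟙 Y) ξ (fun s => (D s).V)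
    (fun s => (D s).a) (fun s => (D s).η) (fun s => by rw [(D s).hη, s.2, Category.comp_id])
  replace hca : ∀ s, c s ≫ (D s).a = φ := fun s => (hca s).trans (Category.comp_id _)
  let π := pullback.snd f φ
  let σ : Lift f ξ → (Spec (CommRingCat.of K) ⟶ pullback f φ) := fun s =>
    pullback.lift s.1 η (by rw [s.2, hη])
  have hσ1 : ∀ s, σ s ≫ π = η := fun s => pullback.lift_snd _ _ _
  have hσ2 : ∀ s, σ s ≫ pullback.fst f φ = s.1 := fun s => pullback.lift_fst _ _ _
  let i := fun s => (D s).piece φ (c s) (hca s)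
  have hinj : Function.Injective σ := fun s s' h => Subtype.ext (by rw [← hσ2, h, hσ2])
  have huniq : ∀ s q, q ≫ π = η → pt q ∈ Set.range (i s) → q = σ s := fun s q hq hm =>
    pullback.hom_ext (by rw [(D s).uniq_piece _ _ _ (hcη s) q hq hm, hσ2]) (hq.trans (hσ1 s).symm)
  have hmem : ∀ s, pt (σ s) ∈ Set.range (i s) := fun s =>
    (D s).mem_range_piece _ _ _ (hcη s) _ (hσ2 s) (hσ1 s)
  refine ⟨W, φ, hφ, η, _, i, fun s => inferInstance, hη, ?_⟩
  have himg : ∀ᶠ v in 𝓝 (pt η), ∀ s, ∃ t ∈ Set.range (i s), π t = v := by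
    refine eventually_all.mpr fun s => ?_
    have hπ : π (pt (σ s)) = pt η := congrArg pt (hσ1 s)
    have hx : f (pt s.1) = pt ξ := apply_pt s
    have ho := H46.OpenAt.isOpenAt_of_isPullback (h _ hx) (IsPullback.of_hasPullback f φ)
      (pt (σ s)) (congrArg pt (hσ2 s)) _ ((i s).isOpenEmbedding.isOpen_range.mem_nhds (hmem s))
    rw [← hπ]
    exact ho
  filter_upwards [himg, eventually_disjoint π _ i σ huniq hσ1 hinj ⊤ (fun _ => trivial)]
    with v h1 h2 s
  obtain ⟨t, ⟨p, rfl⟩, ht⟩ := h1 s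
  exact ⟨_, ⟨p, rfl⟩, ht, (h2 s p ht).2⟩

/-- Lower semicontinuity along a fibre of universal openness; when equality holds at a point, the
corresponding fibre is covered by the pieces. -/
theorem exists_pieces_count (h : ∀ x : X, f x = pt ξ → EGA43.IsUnivOpenAt f x) :
    ∃ (W : Scheme.{u}) (φ : W ⟶ Y) (_ : Etale φ) (η : Spec (CommRingCat.of K) ⟶ W)
      (Q : Lift f ξ → Scheme.{u}) (i : ∀ s, Q s ⟶ pullback f φ)
      (_ : ∀ s, IsFinite (i s ≫ pullback.snd f φ)),
      η ≫ φ = ξ ∧ ∀ᶠ v in 𝓝 (pt η),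
        MoreMor.nGeomConnComp f (pt ξ) ≤ MoreMor.nGeomConnComp f (φ v) ∧
        (MoreMor.nGeomConnComp f (φ v) = MoreMor.nGeomConnComp f (pt ξ) →
          ∀ t, pullback.snd f φ t = v → ∃ s, t ∈ Set.range (i s)) := by
  classical
  obtain ⟨W, φ, hφ, η, Q, i, hi, hη, hev⟩ := exists_pieces f ξ h
  refine ⟨W, φ, hφ, η, Q, i, hi, hη, ?_⟩
  filter_upwards [hev] with v hv
  obtain ⟨L, _, _, ζ, hζ⟩ := exists_pt_eq v
  let π := pullback.snd f φ
  have hl : MoreMor.nGeomConnComp f (φ v) = ENat.card (Lift π ζ) := by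
    rw [ENat.card_congr (baseChangeEquiv (IsPullback.of_hasPullback f φ) ζ),
      ← nGeomConnComp_eq_card_lift, pt_comp, hζ]
  choose t ht htv huni using hv
  choose q hq using fun s => exists_lift π ζ (t s) ((htv s).trans hζ.symm)
  have hinj : Function.Injective q := fun s s' he => by
    refine huni s' s ?_
    rw [← hq s', ← he, hq s]
    exact ht s
  have := finite_lift f ξ (f.finite_preimage_singleton _)
  have := finite_lift π ζ (π.finite_preimage_singleton _)
  rw [hl, nGeomConnComp_eq_card_lift]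
  refine ⟨ENat.card_le_card_of_injective hinj, fun he z hz => ?_⟩
  rw [ENat.card_eq_coe_natCard, ENat.card_eq_coe_natCard, Nat.cast_inj] at he
  have hbij := (Nat.bijective_iff_injective_and_card q).mpr ⟨hinj, he.symm⟩
  obtain ⟨r, hr⟩ := exists_lift π ζ z (hz.trans hζ.symm)
  obtain ⟨s, rfl⟩ := hbij.2 r
  exact ⟨s, by rw [← hr, hq]; exact ht s⟩

/-- The number of geometric points is lower semicontinuous at a point where the morphism is
universally open. -/
theorem eventually_le_nGeomConnComp (y : Y) (h : ∀ x : X, f x = y → EGA43.IsUnivOpenAt f x) :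
    ∀ᶠ z in 𝓝 y, MoreMor.nGeomConnComp f y ≤ MoreMor.nGeomConnComp f z := by
  obtain ⟨K, _, _, ξ, rfl⟩ := exists_pt_eq y
  obtain ⟨W, φ, _, η, Q, i, _, hη, hev⟩ := exists_pieces_count f ξ h
  have hy : φ (pt η) = pt ξ := congrArg pt hη
  rw [← hy] at hev ⊢
  exact Filter.mem_of_superset (φ.isOpenMap.image_mem_nhds hev) fun _ ⟨v, hv, e⟩ => e ▸ hv.1

/-- If moreover the number is constant near the point, the morphism is proper near it. -/
theorem exists_isProper_of_const (y : Y) (h : ∀ x : X, f x = y → EGA43.IsUnivOpenAt f x)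
    (hc : ∀ᶠ z in 𝓝 y, MoreMor.nGeomConnComp f z = MoreMor.nGeomConnComp f y) :
    ∃ U : Y.Opens, y ∈ U ∧ IsProper (f ∣_ U) := by
  obtain ⟨K, _, _, ξ, rfl⟩ := exists_pt_eq y
  obtain ⟨W, φ, hφ, η, Q, i, hi, hη, hev⟩ := exists_pieces_count f ξ h
  have hy : φ (pt η) = pt ξ := congrArg pt hη
  have hev' : ∀ᶠ v in 𝓝 (pt η), ∀ t, pullback.snd f φ t = v → ∃ s, t ∈ Set.range (i s) := by
    have hc' : ∀ᶠ z in 𝓝 (φ (pt η)),
        MoreMor.nGeomConnComp f z = MoreMor.nGeomConnComp f (pt ξ) := hy.symm ▸ hc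
    filter_upwards [hev, φ.continuous.continuousAt.eventually hc'] with v hv hv' using hv.2 hv'
  obtain ⟨N, hN, hNo, hηN⟩ := eventually_nhds_iff.mp hev'
  let N' : W.Opens := ⟨N, hNo⟩
  let U : Y.Opens := ⟨φ '' N, φ.isOpenMap N hNo⟩
  refine ⟨U, ⟨pt η, hηN, hy⟩, ?_⟩
  have hle : N' ≤ φ ⁻¹ᵁ U := fun v hv => ⟨v, hv, rfl⟩
  let ψ : (N' : Scheme.{u}) ⟶ U := W.homOfLE hle ≫ φ ∣_ U
  have : Etale (φ ∣_ U) := IsZariskiLocalAtTarget.restrict hφ U
  have : Etale ψ := inferInstance
  have : Surjective ψ := ⟨fun z => by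
    obtain ⟨v, hv, hvz⟩ := z.2
    refine ⟨⟨v, hv⟩, U.ι.isOpenEmbedding.injective ?_⟩
    rw [← Scheme.Hom.comp_apply, Category.assoc, morphismRestrict_ι, Scheme.homOfLE_ι_assoc]
    exact hvz⟩
  -- the base change to `N'` is universally closed
  let P := pullback f (N'.ι ≫ φ)
  let π' : P ⟶ N' := pullback.snd f (N'.ι ≫ φ)
  let toT : P ⟶ pullback f φ :=
    pullback.lift (pullback.fst _ _) (π' ≫ N'.ι) (by rw [Category.assoc, pullback.condition])
  have hT : IsPullback toT π' (pullback.snd f φ) N'.ι :=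
    IsPullback.of_right (by rw [pullback.lift_fst]; exact IsPullback.of_hasPullback f (N'.ι ≫ φ))
      (pullback.lift_snd _ _ _) (IsPullback.of_hasPullback f φ)
  have hfin : ∀ s, IsFinite (pullback.snd (i s) toT ≫ π') := fun s =>
    MorphismProperty.of_isPullback ((IsPullback.of_hasPullback (i s) toT).paste_vert hT) (hi s)
  have := finite_lift f ξ (f.finite_preimage_singleton _)
  have hπ : UniversallyClosed π' :=
    universallyClosed_of_pieces π' (fun s => pullback.snd (i s) toT) fun t => by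
      obtain ⟨s, hs⟩ := hN (N'.ι (π' t)) (π' t).2 (toT t)
        (by rw [← Scheme.Hom.comp_apply, ← Scheme.Hom.comp_apply, hT.w])
      exact ⟨s, by rw [Scheme.Pullback.range_snd]; exact hs⟩
  have huc : UniversallyClosed (f ∣_ U) := by
    let g : P ⟶ (f ⁻¹ᵁ U : X.Opens) :=
      (isPullback_morphismRestrict f U).flip.lift (pullback.fst _ _) (π' ≫ ψ) (by
        rw [pullback.condition, Category.assoc, Category.assoc, morphismRestrict_ι,
          Scheme.homOfLE_ι_assoc])
    have hg : IsPullback g π' (f ∣_ U) ψ :=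
      IsPullback.of_right (by
          rw [IsPullback.lift_fst, Category.assoc, morphismRestrict_ι, Scheme.homOfLE_ι_assoc]
          exact IsPullback.of_hasPullback f (N'.ι ≫ φ))
        (IsPullback.lift_snd _ _ _ _) (isPullback_morphismRestrict f U).flip
    exact MorphismProperty.of_isPullback_of_descendsAlong
      (Q := @Surjective ⊓ @Flat ⊓ @LocallyOfFinitePresentation) hg.flip
      ⟨⟨inferInstance, inferInstance⟩, inferInstance⟩ hπ
  have : IsSeparated (f ∣_ U) := inferInstance
  have : LocallyOfFiniteType (f ∣_ U) := inferInstance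
  constructor

end Groth.Agent.H34.GeomPts
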