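import Groth.Agent.Lib.Unram.GeomCount
import Mathlib.AlgebraicGeometry.ZariskisMainTheorem
import Mathlib.FieldTheory.Minpoly.Field
import Mathlib.RingTheory.Algebraic.Integral
import Mathlib.Algebra.Polynomial.Splits

/-!
# Points of base changed fibres and geometric points

A point of a base change has as many fibre points as the geometric fibre as soon as all geometric
points descend to its residue field; this is the case when a suitable polynomial splits there.
-/

set_option autoImplicit false

universe u

open CategoryTheory CategoryTheory.Limits AlgebraicGeometry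

namespace Groth.Agent.H34.GeomPts

open Groth.Agent.H54.GeomLift

variable {X Y : Scheme.{u}} (f : X ⟶ Y) [LocallyQuasiFinite f] [LocallyOfFiniteType f]

/-- The geometric number of connected components counts the geometric points. -/
theorem nGeomConnComp_eq_card_lift {K : Type u} [Field K] [IsAlgClosed K]
    (ξ : Spec (CommRingCat.of K) ⟶ Y) :
    MoreMor.nGeomConnComp f (pt ξ) = ENat.card (Lift f ξ) := by
  have := Groth.Agent.H54.GeomFibre.discreteTopology_geomFiber f (pt ξ)
  rw [← Groth.Agent.Lib.Unram.GeomCount.card_geomFiber, MoreMor.nGeomConnComp]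
  refine (ENat.card_congr (Equiv.ofBijective (ConnectedComponents.mk :
    ↥(MoreMor.geomFiber f (pt ξ)) → _) ⟨fun a b h => ?_, ConnectedComponents.surjective_coe⟩)).symm
  have h1 := ConnectedComponents.coe_eq_coe.mp h
  rwa [connectedComponent_eq_singleton, connectedComponent_eq_singleton,
    Set.singleton_eq_singleton_iff] at h1

omit [LocallyQuasiFinite f] [LocallyOfFiniteType f] in
/-- Two sections at the same point agree. -/
theorem section_ext {P T : Scheme.{u}} (π : P ⟶ T) (t : T)
    (a b : Spec (T.residueField t) ⟶ P)
    (ha : a ≫ π = T.fromSpecResidueField t) (hb : b ≫ π = T.fromSpecResidueField t)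
    (hab : pt (k := T.residueField t) a = pt (k := T.residueField t) b) : a = b := by
  obtain ⟨w, hw⟩ : ∃ w, pt (k := T.residueField t) a = w := ⟨_, rfl⟩
  have ht : π w = t := by
    rw [← hw]
    exact (congrArg (pt (k := T.residueField t)) ha).trans (T.fromSpecResidueField_apply t _)
  obtain ⟨e, he⟩ : ∃ e : P.residueField w ⟶ CommRingCat.of (T.residueField t),
      a = Spec.map e ≫ P.fromSpecResidueField w := by
    rw [← hw]; exact exists_of_pt (k := T.residueField t) a
  obtain ⟨e', he'⟩ : ∃ e' : P.residueField w ⟶ CommRingCat.of (T.residueField t),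
      b = Spec.map e' ≫ P.fromSpecResidueField w := by
    rw [← hab.symm.trans hw]; exact exists_of_pt (k := T.residueField t) b
  subst ht
  have key : ∀ (c : Spec (T.residueField (π w)) ⟶ P)
      (ε : P.residueField w ⟶ CommRingCat.of (T.residueField (π w))),
      c = Spec.map ε ≫ P.fromSpecResidueField w → c ≫ π = T.fromSpecResidueField (π w) →
        ∀ r, ε.hom (π.residueFieldMap w r) = r := fun c ε hc hcπ r => by
    have h1 : Spec.map (π.residueFieldMap w ≫ ε) ≫ T.fromSpecResidueField (π w) =
        Spec.map (𝟙 _) ≫ T.fromSpecResidueField (π w) := by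
      rw [Spec.map_comp, Category.assoc, Scheme.Hom.SpecMap_residueFieldMap_fromSpecResidueField,
        Spec.map_id, Category.id_comp, ← Category.assoc]
      rw [← hc]
      exact hcπ
    exact congr($(Spec.map_injective ((cancel_mono _).1 h1)) r)
  have hee : e = e' := CommRingCat.hom_ext (RingHom.ext fun x => by
    have hx : π.residueFieldMap w (e.hom x) = x :=
      e.hom.injective (key a e he ha (e.hom x))
    conv_rhs => rw [← hx]
    exact (key b e' he' hb (e.hom x)).symm)
  rw [he, he', hee]

/-- If all geometric points over a point of a base change descend to its residue field, the base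
changed fibre has as many points as the geometric fibre. -/
theorem card_fiber_eq {T : Scheme.{u}} (g : T ⟶ Y) (t : T) {K : Type u} [Field K] [IsAlgClosed K]
    (η : T.residueField t ⟶ CommRingCat.of K)
    (h : ∀ s : Lift f (Spec.map η ≫ T.fromSpecResidueField t ≫ g),
      ∃ s0 : Spec (T.residueField t) ⟶ X,
        s0 ≫ f = T.fromSpecResidueField t ≫ g ∧ Spec.map η ≫ s0 = s.1) :
    MoreMor.nGeomConnComp f (g t) = ENat.card ↥((pullback.snd f g).fiber t) := by
  let ξ := Spec.map η ≫ T.fromSpecResidueField t
  have hξ : pt ξ = t := pt_specMap_fromSpecResidueField η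
  have : LocallyQuasiFinite (pullback.snd f g) := inferInstance
  let F : Lift (pullback.snd f g) ξ → ↥((pullback.snd f g) ⁻¹' {t}) := fun s =>
    ⟨pt s.1, (apply_pt s).trans hξ⟩
  have hF : Function.Bijective F := by
    refine ⟨fun a b hab => ?_, fun w => ?_⟩
    · have desc : ∀ s : Lift (pullback.snd f g) ξ, ∃ w0 : Spec (T.residueField t) ⟶ pullback f g,
          w0 ≫ pullback.snd f g = T.fromSpecResidueField t ∧ Spec.map η ≫ w0 = s.1 := fun s => by
        obtain ⟨s0, hs0, hs⟩ := h ⟨s.1 ≫ pullback.fst f g, by
          rw [Category.assoc, pullback.condition, reassoc_of% s.2, Category.assoc]⟩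
        refine ⟨pullback.lift s0 (T.fromSpecResidueField t) hs0, pullback.lift_snd _ _ _, ?_⟩
        refine pullback.hom_ext ?_ ?_
        · rw [Category.assoc, pullback.lift_fst]; exact hs
        · rw [Category.assoc, pullback.lift_snd]; exact s.2.symm
      obtain ⟨a0, ha0, ha⟩ := desc a
      obtain ⟨b0, hb0, hb⟩ := desc b
      have hpt : pt (k := T.residueField t) a0 = pt (k := T.residueField t) b0 := by
        have h1 : pt a.1 = pt b.1 := congrArg Subtype.val hab
        rw [← ha, ← hb, pt, pt, Scheme.Hom.comp_apply, Scheme.Hom.comp_apply] at h1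
        exact (congrArg a0 (Subsingleton.elim (α := PrimeSpectrum (T.residueField t)) _ _)).trans
          (h1.trans (congrArg b0 (Subsingleton.elim (α := PrimeSpectrum (T.residueField t)) _ _)))
      exact Subtype.ext (by rw [← ha, ← hb, section_ext _ t a0 b0 ha0 hb0 hpt])
    · obtain ⟨s, hs⟩ := exists_lift (pullback.snd f g) ξ w.1 (w.2.trans hξ.symm)
      exact ⟨s, Subtype.ext hs⟩
  rw [ENat.card_congr ((pullback.snd f g).fiberHomeo t).toEquiv,
    ← ENat.card_congr (Equiv.ofBijective F hF),
    ENat.card_congr (baseChangeEquiv (IsPullback.of_hasPullback f g) ξ),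
    ← nGeomConnComp_eq_card_lift, pt_comp ξ g, hξ]

/-- A finite field extension has a monic polynomial whose splitting forces all embeddings into a
subfield. -/
theorem exists_split_poly (F E : Type u) [Field F] [Field E] [Algebra F E] [Module.Finite F E] :
    ∃ P : Polynomial F, P.Monic ∧ ∀ (k K : Type u) [Field k] [Field K] (a : F →+* k) (b : k →+* K)
      (e : E →+* K), e.comp (algebraMap F E) = b.comp a → (P.map a).Splits → ∀ z, e z ∈ b.range := by
  classical
  let B := Module.finBasis F E
  refine ⟨∏ i, minpoly F (B i), Polynomial.monic_prod_of_monic _ _ fun i _ =>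
    minpoly.monic (Algebra.IsIntegral.isIntegral _), fun k K _ _ a b e he hP z => ?_⟩
  have hne : ∏ i, minpoly F (B i) ≠ 0 := (Polynomial.monic_prod_of_monic _ _ fun i _ =>
    minpoly.monic (Algebra.IsIntegral.isIntegral _)).ne_zero
  have hB : ∀ i, e (B i) ∈ b.range := fun i => by
    refine hP.mem_range_of_isRoot (Polynomial.map_ne_zero hne) ?_
    rw [Polynomial.IsRoot, Polynomial.map_map, ← he, Polynomial.eval_map, ← Polynomial.hom_eval₂]
    refine (congrArg e ?_).trans (map_zero e)
    rw [← Polynomial.aeval_def, map_prod]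
    exact Finset.prod_eq_zero (Finset.mem_univ i) (minpoly.aeval F (B i))
  rw [← B.sum_repr z, map_sum]
  refine Subring.sum_mem _ fun i _ => ?_
  rw [Algebra.smul_def, map_mul, ← RingHom.comp_apply e (algebraMap F E), he]
  exact Subring.mul_mem _ ⟨_, rfl⟩ (hB i)

/-- A polynomial over the residue field whose splitting makes all geometric points of the fibre
rational. -/
theorem exists_descend_poly [QuasiCompact f] (y : Y) :
    ∃ P : Polynomial (Y.residueField y), P.Monic ∧ ∀ (k K : Type u) [Field k] [Field K]
      (a : Y.residueField y ⟶ CommRingCat.of k) (η : CommRingCat.of k ⟶ CommRingCat.of K),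
      (P.map a.hom).Splits →
      ∀ s : Spec (CommRingCat.of K) ⟶ X,
        s ≫ f = Spec.map η ≫ Spec.map a ≫ Y.fromSpecResidueField y →
        ∃ s0 : Spec (CommRingCat.of k) ⟶ X,
          s0 ≫ f = Spec.map a ≫ Y.fromSpecResidueField y ∧ Spec.map η ≫ s0 = s := by
  classical
  have h1 : ∀ x : X, ∃ P : Polynomial (Y.residueField (f x)), P.Monic ∧
      ∀ (k K : Type u) [Field k] [Field K] (a : Y.residueField (f x) →+* k) (b : k →+* K)
        (e : X.residueField x →+* K), e.comp (f.residueFieldMap x).hom = b.comp a →
        (P.map a).Splits → ∀ z, e z ∈ b.range := fun x => by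
    letI := (f.residueFieldMap x).hom.toAlgebra
    have : Module.Finite (Y.residueField (f x)) (X.residueField x) := residueFieldMap_finite f x
    exact exists_split_poly _ _
  choose Q hQm hQ using h1
  have hfin : (f ⁻¹' {y}).Finite := f.finite_preimage_singleton y
  have := hfin.fintype
  let R : ↥(f ⁻¹' {y}) → Polynomial (Y.residueField y) := fun x =>
    (Q x.1).map (Y.residueFieldCongr x.2).hom.hom
  refine ⟨∏ x, R x, Polynomial.monic_prod_of_monic _ _ fun x _ => (hQm x.1).map _,
    fun k K _ _ a η hsplit s hs => ?_⟩
  obtain ⟨x, hx⟩ : ∃ x, pt s = x := ⟨_, rfl⟩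
  have hy : f x = y := by
    rw [← hx, ← pt_comp s f, hs, ← Category.assoc, ← Spec.map_comp]
    exact pt_specMap_fromSpecResidueField (a ≫ η)
  obtain ⟨e, he⟩ : ∃ e : X.residueField x ⟶ CommRingCat.of K,
      s = Spec.map e ≫ X.fromSpecResidueField x := by
    rw [← hx]; exact exists_of_pt s
  have hR : ((R ⟨x, hy⟩).map a.hom).Splits := by
    refine hsplit.of_dvd (Polynomial.map_ne_zero (Polynomial.monic_prod_of_monic _ _
      fun x _ => (hQm x.1).map _).ne_zero) ?_
    exact Polynomial.map_dvd _ (Finset.dvd_prod_of_mem R (Finset.mem_univ _))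
  subst hy
  simp only [R, Scheme.residueFieldCongr_refl, Iso.refl_hom, CommRingCat.hom_id,
    Polynomial.map_id] at hR
  have hcomp : f.residueFieldMap x ≫ e = a ≫ η := Spec.map_injective
    ((cancel_mono (Y.fromSpecResidueField (f x))).1 (by
      rw [Spec.map_comp, Category.assoc, Scheme.Hom.SpecMap_residueFieldMap_fromSpecResidueField,
        ← Category.assoc, ← he, hs, Spec.map_comp, Category.assoc]))
  have hr := hQ x k K a.hom η.hom e.hom (congrArg CommRingCat.Hom.hom hcomp) hR
  choose e0 he0 using hr
  let e0' : X.residueField x →+* k :=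
    { toFun := e0
      map_one' := η.hom.injective (by rw [he0, map_one, map_one])
      map_zero' := η.hom.injective (by rw [he0, map_zero, map_zero])
      map_add' := fun u v => η.hom.injective (by rw [he0, map_add, map_add, he0, he0])
      map_mul' := fun u v => η.hom.injective (by rw [he0, map_mul, map_mul, he0, he0]) }
  have h0 : CommRingCat.ofHom e0' ≫ η = e := CommRingCat.hom_ext (RingHom.ext he0)
  have ha : f.residueFieldMap x ≫ CommRingCat.ofHom e0' = a := CommRingCat.hom_ext (RingHom.ext fun r =>
    η.hom.injective ((he0 _).trans congr($hcomp r)))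
  refine ⟨Spec.map (CommRingCat.ofHom e0') ≫ X.fromSpecResidueField x, ?_, ?_⟩
  · rw [Category.assoc, ← Scheme.Hom.SpecMap_residueFieldMap_fromSpecResidueField,
      ← Category.assoc, ← Spec.map_comp]
    exact congrArg (fun m => Spec.map m ≫ Y.fromSpecResidueField (f x)) ha
  · rw [← Category.assoc, ← Spec.map_comp, h0, he]

end Groth.Agent.H34.GeomPts
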